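import Cfsg.Agent.Mrg.Omega.NO3S.Fld.LevRed
import Cfsg.Agent.Mrg.Omega.FFBr.Final
import Cfsg.Agent.Mrg.Omega.NO3S.ESym.Partners
import Cfsg.Agent.Mrg.Omega.NOThreeL.FFB.Rp2
import Cfsg.Agent.Mrg.Omega.NTwo.Core

section


/-!
# LightL, `n = 5`, (1') of helper411 #25060 / LEMMA (1'U) of helper433 #26100, for one offender

`R` a minimal parabolic over `T`, `M` elementary abelian, `R`-invariant, centralised by `O₂(R)`, `C_M(T) ≤ C(R)`. If some
offender `A ≤ T` on `M` is not in `O₂(R)`, then `O²(R)` centralises `M`.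
-/

set_option autoImplicit false

namespace Cfsg.Agent.Omega.NO3S.SN2.Small

open Subgroup Cfsg Cfsg.Agent.ZN.ChoiceBase Cfsg.Agent.ZN.ChoiceSit
open Cfsg.Agent.ZN (zc zl o2)
open Cfsg.Agent.MinSimple.MinParabolic (IsMinPar)
open Cfsg.Agent.MinSimple.VModule (oddGen mem_oddGen)
open Cfsg.Agent.Omega.FFThm

universe u

variable {G : Type u} [Group G] [Finite G]

/-- **(1') for one offender** -/
theorem cen_top {T R M A : Subgroup G} (hT : Syl T R) (hP : IsMinPar T R) (hM : IsElementaryAbelian 2 M)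
    (hMR : M ≤ R) (hMn : R ≤ normalizer (M : Set G)) (hK : ∀ k ∈ o2 R, ∀ m ∈ M, k * m = m * k)
    (hfix : ∀ m ∈ M, (∀ t ∈ T, t * m = m * t) → ∀ g ∈ R, Odd (orderOf g) → g * m = m * g) (hA : A ≤ T)
    (hel : ElemM M A) (hne : ¬ A ≤ o2 R)
    (hoff : (centralizer (A : Set G)).relIndex M ≤ (centralizer (M : Set G)).relIndex A) :
    M ≤ centralizer (oddGen R : Set G) := by
  refine Fld.ff_lemma_off FFBr.aStmt (Y := M) hT hP hMR hM.2 ?_ hMn ?_ ?_ hA hne hel (relIndex_le_iff.2 hoff)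
  · exact fun x hx => mem_centralizer_iff.2 fun y hy =>
      congrArg (fun t : M => (t : G)) (hM.1.is_comm.comm ⟨y, hy⟩ ⟨x, hx⟩)
  · exact fun k hk => mem_centralizer_iff.2 fun m hm => (hK k hk m hm).symm
  · rintro m ⟨hm, hmT⟩
    have h1 : oddGen R ≤ centralizer ({m} : Set G) := by
      rw [MinSimple.VModule.oddGen_def]
      refine (closure_le _).2 ?_
      rintro g ⟨hg, ho⟩
      exact mem_centralizer_singleton_iff.2 (hfix m hm (fun t ht => mem_centralizer_iff.1 hmT t ht) g hg ho)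
    exact mem_centralizer_iff.2 fun g hg => mem_centralizer_singleton_iff.1 (h1 hg)

end Cfsg.Agent.Omega.NO3S.SN2.Small

end

section


/-!
# LightL (E), `n = 5`: LEMMA (1'U) (helper433 #26100): (1') for every `R`, without levels

`Memb O V W A Q a` : a member `A ∈ AA O` which acts on `V` as `⟨a⟩` (a transposition), `V ≤ W ≤ O`, `W` elementary abelian,
`C_A(V) ≤ Q`, `a` normalises `Q`.

* `Memb.mem` : `C_A(V) V ∈ AA O`;
* `Memb.act` (i) : `u ∈ W` centralised by `C_A(V)` ⟹ `a u a⁻¹ ∈ u V`;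
* `Memb.off` (ii) : `|M : C_M(C_A(V))| ≤ |C_A(V) : C_{C_A(V)}(M)|` for `M ≤ W`;
* `fin` : the fixed point argument;
* `one_of` : (1').
-/

set_option autoImplicit false
set_option linter.unusedSectionVars false

namespace Cfsg.Agent.Omega.NO3S.LightFive.OneP

open Subgroup Cfsg Cfsg.Agent.ZN Cfsg.Agent.ZN.ChoiceBase Cfsg.Agent.ZN.ChoiceSit
open Cfsg.Agent.PLocal.ElemAbSup
open Cfsg.Agent.PLocal.ThompsonJ (isElementaryAbelian_mono isPGroup_of_isElementaryAbelian)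
open Cfsg.Agent.Omega.NO3S.ESym (ea_comm ea_sq card_rel cw cw_ea thompson sup_mem_AA)
open Cfsg.Agent.MinSimple.MinParabolic (IsMinPar)
open Cfsg.Agent.MinSimple.VModule (oddGen)
open Cfsg.Agent.Omega.FFThm (ElemM)

universe u

variable {G : Type u} [Group G]

/-- A member `A ∈ AA O` which induces `⟨a⟩` on `V`. -/
structure Memb (O V W A Q : Subgroup G) (a : G) : Prop where
  mem : A ∈ AA O
  V2 : IsElementaryAbelian 2 V
  W2 : IsElementaryAbelian 2 W
  VW : V ≤ W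
  WO : W ≤ O
  aA : a ∈ A
  aV : ∀ v ∈ V, a * v * a⁻¹ ∈ V
  /-- `A` induces `⟨a⟩` on `V` -/
  ind : ∀ b ∈ A, (∀ v ∈ V, b * v = v * b) ∨ ∀ v ∈ V, b * v * b⁻¹ = a * v * a⁻¹
  mov : ∃ v ∈ V, a * v ≠ v * a
  cQ : ∀ b ∈ A, (∀ v ∈ V, b * v = v * b) → b ∈ Q
  aQ : ∀ q ∈ Q, a * q * a⁻¹ ∈ Q

theorem mem_cent {V : Subgroup G} {b : G} : b ∈ centralizer (V : Set G) ↔ ∀ v ∈ V, b * v = v * b := by
  rw [mem_centralizer_iff]
  exact ⟨fun h v hv => (h v hv).symm, fun h v hv => (h v hv).symm⟩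

namespace Memb

variable [Finite G] {O V W A Q : Subgroup G} {a : G} (f : Memb O V W A Q a)
include f

theorem VO : V ≤ O := f.VW.trans f.WO

theorem idx : (centralizer (V : Set G)).relIndex A ≤ 2 := by
  have h1 : A ≤ normalizer (V : Set G) := by
    intro b hb
    have key : ∀ v ∈ V, b * v * b⁻¹ ∈ V := by
      intro v hv
      rcases f.ind b hb with h | h
      · rw [h v hv, mul_inv_cancel_right]; exact hv
      · rw [h v hv]; exact f.aV v hv
    have h2 : b⁻¹ = b := by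
      have := ea_sq f.mem.1 hb
      rw [pow_two] at this
      exact inv_eq_of_mul_eq_one_left this
    refine mem_normalizer_iff.2 fun v => ⟨key v, fun hv => ?_⟩
    have h3 := key _ hv
    have e : b * (b * v * b⁻¹) * b⁻¹ = v := by
      have hbb : b * b = 1 := by rw [← pow_two]; exact ea_sq f.mem.1 hb
      calc b * (b * v * b⁻¹) * b⁻¹ = (b * b) * v * (b * b)⁻¹ := by group
        _ = v := by rw [hbb]; group
    rwa [e] at h3
  -- `A = F ∪ a F`
  by_cases hc : A ≤ centralizer (V : Set G)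
  · rw [relIndex_eq_one.2 hc]; omega
  · have key : ∀ b ∈ A, b ∈ centralizer (V : Set G) ∨ a⁻¹ * b ∈ centralizer (V : Set G) := by
      intro b hb
      rcases f.ind b hb with h | h
      · exact Or.inl (mem_cent.2 h)
      · right
        refine mem_cent.2 fun v hv => ?_
        have h2 := h v hv
        calc a⁻¹ * b * v = a⁻¹ * (b * v * b⁻¹) * b := by group
          _ = a⁻¹ * (a * v * a⁻¹) * b := by rw [h2]
          _ = v * (a⁻¹ * b) := by group
    have h3 : ((centralizer (V : Set G)).subgroupOf A).index ≤ 2 := by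
      rw [index_eq_card]
      have hs : Function.Surjective (fun i : Bool => (QuotientGroup.mk
          (if i then (⟨a, f.aA⟩ : A) else 1) : A ⧸ (centralizer (V : Set G)).subgroupOf A)) := by
        intro q
        obtain ⟨⟨b, hb⟩, rfl⟩ := QuotientGroup.mk_surjective q
        rcases key b hb with h | h
        · refine ⟨false, ?_⟩
          refine QuotientGroup.eq.2 (mem_subgroupOf.2 ?_)
          simpa using h
        · refine ⟨true, ?_⟩
          refine QuotientGroup.eq.2 (mem_subgroupOf.2 ?_)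
          simpa using h
      have := Nat.card_le_card_of_surjective _ hs
      simpa using this
    exact h3

theorem two : 2 ≤ (centralizer (A : Set G)).relIndex V := by
  have h1 : (centralizer (A : Set G)).relIndex V ≠ 1 := by
    intro h
    obtain ⟨v, hv, hne⟩ := f.mov
    exact hne (mem_centralizer_iff.1 (relIndex_eq_one.1 h hv) a f.aA)
  have h2 : (centralizer (A : Set G)).relIndex V ≠ 0 :=
    (centralizer (A : Set G)).subgroupOf V |>.index_ne_zero_of_finite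
  omega

/-- `C_A(V) V ∈ AA O` -/
theorem sup_mem : cw A V ∈ AA O := sup_mem_AA f.mem f.V2 f.VO (f.idx.trans f.two)

/-- (i) -/
theorem act {u : G} (hu : u ∈ W) (hc : ∀ b ∈ A, (∀ v ∈ V, b * v = v * b) → b * u = u * b) :
    ∃ v ∈ V, a * u * a⁻¹ = u * v := by
  have h1 : u ∈ cw A V := by
    have hz : IsElementaryAbelian 2 (zpowers u) := isElementaryAbelian_mono f.W2 (by rw [zpowers_le]; exact hu)
    have h2 : zpowers u ≤ centralizer ((cw A V : Subgroup G) : Set G) := by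
      rw [zpowers_le, mem_centralizer_iff]
      intro x hx
      have h3 : cw A V ≤ centralizer ({u} : Set G) := by
        refine sup_le ?_ ?_
        · rintro b ⟨hb, hbV⟩
          exact mem_centralizer_singleton_iff.2 (hc b hb (mem_cent.1 hbV))
        · exact fun v hv => mem_centralizer_singleton_iff.2 (ea_comm f.W2 (f.VW hv) hu)
      exact mem_centralizer_singleton_iff.1 (h3 hx)
    exact ESym.le_of_centralizes f.sup_mem hz (by rw [zpowers_le]; exact f.WO hu) h2 (mem_zpowers u)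
  rw [cw, ← SetLike.mem_coe, coe_sup_of_le_centralizer (by rw [le_centralizer_iff]; exact inf_le_right)] at h1
  obtain ⟨b, ⟨hb, hbV⟩, v, hv, rfl⟩ := h1
  refine ⟨v⁻¹ * (a * v * a⁻¹), mul_mem (inv_mem hv) (f.aV v hv), ?_⟩
  have h4 : a * b = b * a := ea_comm f.mem.1 f.aA hb
  change a * (b * v) * a⁻¹ = b * v * (v⁻¹ * (a * v * a⁻¹))
  calc a * (b * v) * a⁻¹ = (a * b) * v * a⁻¹ := by group
    _ = (b * a) * v * a⁻¹ := by rw [h4]
    _ = _ := by group

/-- (ii) -/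
theorem off {M : Subgroup G} (hM : M ≤ W) :
    (centralizer ((A ⊓ centralizer (V : Set G) : Subgroup G) : Set G)).relIndex M ≤
      (centralizer (M : Set G)).relIndex (A ⊓ centralizer (V : Set G) : Subgroup G) := by
  have hM2 : IsElementaryAbelian 2 M := isElementaryAbelian_mono f.W2 hM
  have h1 := thompson f.sup_mem hM2 (hM.trans f.WO)
  set F : Subgroup G := A ⊓ centralizer (V : Set G) with hF
  have hVM : V ≤ centralizer (M : Set G) := fun v hv => mem_cent.2 fun m hm => ea_comm f.W2 (f.VW hv) (hM hm)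
  have e1 : (centralizer ((cw A V : Subgroup G) : Set G)) ⊓ M = centralizer (F : Set G) ⊓ M := by
    apply le_antisymm
    · exact inf_le_inf_right _ (centralizer_le (le_sup_left : F ≤ cw A V))
    · refine le_inf ?_ inf_le_right
      rw [cw, le_centralizer_iff]
      refine sup_le ?_ ?_
      · rw [le_centralizer_iff]; exact inf_le_left
      · exact hVM.trans (centralizer_le inf_le_right)
  have e2 : (centralizer ((cw A V : Subgroup G) : Set G)).relIndex M = (centralizer (F : Set G)).relIndex M := by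
    rw [← inf_relIndex_right, e1, inf_relIndex_right]
  rw [e2] at h1
  refine h1.trans ?_
  -- `|F V : C_{FV}(M)| ≤ |F : C_F(M)|`
  have hFV : V ≤ centralizer (F : Set G) := by rw [le_centralizer_iff]; exact inf_le_right
  change ((centralizer (M : Set G)).subgroupOf (F ⊔ V)).index ≤ ((centralizer (M : Set G)).subgroupOf F).index
  rw [index_eq_card, index_eq_card]
  have hle : F ≤ F ⊔ V := le_sup_left
  let g : F ⧸ ((centralizer (M : Set G)).subgroupOf F) → ↥(F ⊔ V) ⧸ ((centralizer (M : Set G)).subgroupOf (F ⊔ V)) :=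
    Quotient.map' (inclusion hle) (by
      intro x y hxy
      rw [QuotientGroup.leftRel_apply] at hxy ⊢
      exact mem_subgroupOf.2 (mem_subgroupOf.1 hxy))
  refine Nat.card_le_card_of_surjective g ?_
  intro q
  obtain ⟨⟨x, hx⟩, rfl⟩ := QuotientGroup.mk_surjective q
  have hx' := hx
  rw [← SetLike.mem_coe, coe_sup_of_le_centralizer hFV] at hx'
  obtain ⟨b, hb, v, hv, hbv⟩ := hx'
  refine ⟨QuotientGroup.mk ⟨b, hb⟩, ?_⟩
  change QuotientGroup.mk (inclusion hle ⟨b, hb⟩) = _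
  refine QuotientGroup.eq.2 (mem_subgroupOf.2 ?_)
  change b⁻¹ * x ∈ centralizer (M : Set G)
  have hbv' : b * v = x := hbv
  rw [← hbv', inv_mul_cancel_left]
  exact hVM hv

end Memb

/-- the fixed point argument of (1'U) -/
theorem fin [Finite G] {T Q V Z M : Subgroup G} {a b : G} (hT : IsPGroup 2 T) (hM2 : IsPGroup 2 M) (hQT : Q ≤ T)
    (hTM : T ≤ normalizer (M : Set G)) (hTZ : T ≤ centralizer (Z : Set G)) (hMZ : M ≤ centralizer (Z : Set G))
    (hVQ : ∀ v ∈ V, ∀ q ∈ Q, v * q = q * v)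
    (hcQ : ∀ u ∈ M, (∀ q ∈ Q, q * u = u * q) → u ∈ Z)
    (ha : ∀ u ∈ M, ∃ v ∈ V, a * u * a⁻¹ = u * v) (hb : ∀ u ∈ M, ∃ v ∈ V, b * u * b⁻¹ = u * v)
    (haQ : ∀ q ∈ Q, a * q * a⁻¹ ∈ Q) (hbQ : ∀ q ∈ Q, b * q * b⁻¹ ∈ Q)
    (hZ : ∀ z ∈ Z, a * z * a⁻¹ ∈ Z → b * z * b⁻¹ ∈ Z → z = 1) : M ≤ Z := by
  by_contra hne
  -- the 2-group `T M Z`
  have hMn : T ⊔ M ≤ normalizer (M : Set G) := sup_le hTM le_normalizer
  have hZc : T ⊔ M ≤ centralizer (Z : Set G) := sup_le hTZ hMZ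
  have hX1 : IsPGroup 2 (T ⊔ M : Subgroup G) := by
    have hf : Fact (Nat.Prime 2) := ⟨Nat.prime_two⟩
    exact hT.to_sup_of_normal_right' hM2 hTM
  obtain ⟨u, hu, huZ, hfix⟩ := NOThreeL.FFB.exists_fix_mod (K := Z) hX1 (le_sup_right : M ≤ T ⊔ M) hMn
    (hZc.trans (centralizer_le_normalizer _)) hne
  apply huZ
  refine hcQ u hu fun q hq => ?_
  -- `[q, u] ∈ Z`
  have key : ∀ q ∈ Q, q * u * q⁻¹ * u⁻¹ ∈ Z := fun q hq => hfix q (mem_sup_left (hQT hq))
  have hstep : ∀ c : G, (∀ u ∈ M, ∃ v ∈ V, c * u * c⁻¹ = u * v) → (∀ q ∈ Q, c * q * c⁻¹ ∈ Q) →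
      c * (q * u * q⁻¹ * u⁻¹) * c⁻¹ ∈ Z := by
    intro c hc hcq
    obtain ⟨v, hv, h1⟩ := hc u hu
    have h2 := key _ (hcq q hq)
    have h3 := hVQ v hv _ (hcq q hq)
    set r := c * q * c⁻¹ with hr
    have e : c * (q * u * q⁻¹ * u⁻¹) * c⁻¹ = r * u * r⁻¹ * u⁻¹ := by
      calc c * (q * u * q⁻¹ * u⁻¹) * c⁻¹ = r * (c * u * c⁻¹) * r⁻¹ * (c * u * c⁻¹)⁻¹ := by rw [hr]; group
        _ = r * u * (v * r⁻¹) * (u * v)⁻¹ := by rw [h1]; group
        _ = r * u * (r⁻¹ * v) * (u * v)⁻¹ := by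
            rw [show v * r⁻¹ = r⁻¹ * v by
              rw [eq_inv_mul_iff_mul_eq, ← mul_assoc, ← h3, mul_assoc, mul_inv_cancel, mul_one]]
        _ = _ := by group
    rw [e]
    exact h2
  have h4 := hZ _ (key q hq) (hstep a ha haQ) (hstep b hb hbQ)
  calc q * u = (q * u * q⁻¹ * u⁻¹) * (u * q) := by group
    _ = u * q := by rw [h4, one_mul]

/-- **(1'), LEMMA (1'U)** -/
theorem one_of [Finite G] {T R Q V Z M : Subgroup G} {O₁ W₁ A₁ O₂ W₂ A₂ : Subgroup G} {a₁ a₂ : G}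
    (hT : Syl T R) (hP : IsMinPar T R) (m₁ : Memb O₁ V W₁ A₁ Q a₁) (m₂ : Memb O₂ V W₂ A₂ Q a₂)
    (hQT : Q ≤ T) (hVQ : ∀ v ∈ V, ∀ q ∈ Q, v * q = q * v) (hRZ : R ≤ centralizer (Z : Set G))
    (hcQ : ∀ u ∈ W₁, (∀ q ∈ Q, q * u = u * q) → u ∈ V)
    (hVT : ∀ v ∈ V, (∀ t ∈ T, t * v = v * t) → v ∈ Z)
    (hVK : ∀ v ∈ V, (∀ k ∈ o2 R, k * v = v * k) → v ∈ Z)
    (hZ : ∀ z ∈ Z, a₁ * z * a₁⁻¹ ∈ Z → a₂ * z * a₂⁻¹ ∈ Z → z = 1)
    (hMR : M ≤ R) (hM1 : M ≤ W₁) (hM2 : M ≤ W₂) (hMn : R ≤ normalizer (M : Set G))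
    (hMK : ∀ k ∈ o2 R, ∀ m ∈ M, k * m = m * k) : M ≤ centralizer (oddGen R : Set G) := by
  have hTR : T ≤ R := hT.1
  have hMel : IsElementaryAbelian 2 M := isElementaryAbelian_mono m₁.W2 hM1
  have hfix : ∀ m ∈ M, (∀ t ∈ T, t * m = m * t) → m ∈ Z := fun m hm h =>
    hVT m (hcQ m (hM1 hm) fun q hq => h q (hQT hq)) h
  -- the members offend on `M`
  have main : ∀ {O W A : Subgroup G} {a : G}, Memb O V W A Q a → M ≤ W →
      M ≤ centralizer (oddGen R : Set G) ∨ ∀ b ∈ A, (∀ v ∈ V, b * v = v * b) → ∀ u ∈ M, b * u = u * b := by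
    intro O W A a f hMW
    set F : Subgroup G := A ⊓ centralizer (V : Set G) with hF
    have hFQ : F ≤ Q := fun b hb => f.cQ b hb.1 (mem_cent.1 hb.2)
    by_cases hFK : F ≤ o2 R
    · right
      intro b hb hbV u hu
      exact hMK b (hFK ⟨hb, mem_cent.2 hbV⟩) u hu
    · left
      refine SN2.Small.cen_top hT hP hMel hMR hMn hMK ?_ (hFQ.trans hQT)
        (ElemM.of_elem (isElementaryAbelian_mono f.mem.1 inf_le_left)) hFK (f.off hMW)
      intro m hm h g hg _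
      exact (mem_centralizer_iff.1 (hRZ hg) m (hfix m hm h)).symm
  rcases main m₁ hM1 with h | h1
  · exact h
  rcases main m₂ hM2 with h | h2
  · exact h
  have hMZ : M ≤ Z := by
    refine fin (a := a₁) (b := a₂) hT.2.1 (isPGroup_of_isElementaryAbelian hMel) hQT (hTR.trans hMn) (hTR.trans hRZ)
      (hMR.trans hRZ) hVQ ?_ ?_ ?_ m₁.aQ m₂.aQ hZ
    · intro u hu h
      exact hVK u (hcQ u (hM1 hu) h) fun k hk => hMK k hk u hu
    · exact fun u hu => m₁.act (hM1 hu) fun b hb hbV => h1 b hb hbV u hu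
    · exact fun u hu => m₂.act (hM2 hu) fun b hb hbV => h2 b hb hbV u hu
  intro m hm
  refine mem_centralizer_iff.2 fun g hg => ?_
  exact (mem_centralizer_iff.1 (hRZ (MinSimple.VModule.oddGen_le R hg)) m (hMZ hm)).symm

end Cfsg.Agent.Omega.NO3S.LightFive.OneP

end

section


/-!
# `S` induces all of `D8` on the five points (any standard position)

* `mem_D8` : an element of `S` which induces `σ` has `σ ∈ D8`;
* `ind_D8` : `Std S P p`, `S` a Sylow 2-subgroup: every `d ∈ D8` is induced by an element of `S`;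
* `ind_swap01`, `ind_swap23`, `ind_cross` : the transpositions `(0 1)`, `(2 3)` and `(0 2)(1 3)`;
* `ind_T` : every `d ∈ D8` which fixes the pair `{0, 1}` is induced by an element of `T = C_S(nn p)`.
-/

set_option autoImplicit false

namespace Cfsg.Agent.Omega.NO3S.LightFive.DEight

open Subgroup Cfsg Cfsg.Agent.ZN Cfsg.Agent.Omega.NTwo
open scoped Pointwise

universe u

variable {G : Type u} [Group G] [Finite G] {S : Sylow 2 G} {P : Subgroup G} {p : Fin 5 → G}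

theorem mem_D8_of : ∀ σ : Equiv.Perm (Fin 5), σ 4 = 4 →
    (((σ 0 = 0 ∧ σ 1 = 1) ∨ (σ 0 = 1 ∧ σ 1 = 0)) ∨ ((σ 0 = 2 ∧ σ 1 = 3) ∨ (σ 0 = 3 ∧ σ 1 = 2))) → σ ∈ D8 := by
  decide +kernel

omit [Finite G] in
/-- an element of `S` induces an element of `D8` -/
theorem mem_D8 {S : Subgroup G} (h : Std S P p) {x : G} (hx : x ∈ S) {σ : Equiv.Perm (Fin 5)}
    (hσ : ∀ i, x * p i * x⁻¹ = p (σ i)) : σ ∈ D8 := by
  refine mem_D8_of σ ?_ ?_
  · have h1 := h.fix x hx
    rw [hσ] at h1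
    exact h.inj h1
  · rcases h.part x hx with h1 | h1
    · rw [cm, hσ, hσ] at h1
      exact Or.inl (h.pair_inj (fun e => absurd (σ.injective e) (by decide)) (by decide) h1)
    · rw [cm, hσ, hσ] at h1
      exact Or.inr (h.pair_inj (fun e => absurd (σ.injective e) (by decide)) (by decide) h1)

/-- **`S` induces all of `D8`.** -/
theorem ind_D8 (h : Std (S : Subgroup G) P p) {d : Equiv.Perm (Fin 5)} (hd : d ∈ D8) :
    ∃ x ∈ (S : Subgroup G), ∀ i, x * p i * x⁻¹ = p (d i) := by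
  have hp : Fact (Nat.Prime 2) := ⟨Nat.prime_two⟩
  obtain ⟨φ, hφs, hφ⟩ := h.toFv.exists_hom
  obtain ⟨D, hD⟩ := exists_D8
  have h2 : (((S.subtype h.le).mapSurjective hφs : Sylow 2 (Equiv.Perm (Fin 5))) : Subgroup _) =
      ((S : Subgroup G).subgroupOf P).map φ := by
    rw [Sylow.coe_mapSurjective]; rfl
  have h3 : (((S.subtype h.le).mapSurjective hφs : Sylow 2 (Equiv.Perm (Fin 5))) : Subgroup (Equiv.Perm (Fin 5))) ≤ (D : Subgroup (Equiv.Perm (Fin 5))) := by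
    rw [h2, hD]
    rintro _ ⟨x, hx, rfl⟩
    exact mem_D8 h (mem_subgroupOf.1 hx) (hφ x)
  have h4 : (D : Subgroup (Equiv.Perm (Fin 5))) = ((S : Subgroup G).subgroupOf P).map φ := by
    rw [← h2]
    exact ((S.subtype h.le).mapSurjective hφs).is_maximal' D.2 h3
  rw [← hD, h4] at hd
  obtain ⟨x, hx, h5⟩ := hd
  refine ⟨x, mem_subgroupOf.1 hx, fun i => ?_⟩
  have h6 := hφ x i
  rwa [h5] at h6

/-- the elements of `D8` which fix the pair `{0, 1}` are induced by `T = C_S(p 0 * p 1)` -/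
theorem ind_T (h : Std (S : Subgroup G) P p) {d : Equiv.Perm (Fin 5)} (hd : d ∈ D8)
    (h01 : (d 0 = 0 ∧ d 1 = 1) ∨ (d 0 = 1 ∧ d 1 = 0)) :
    ∃ x ∈ (S : Subgroup G) ⊓ centralizer {p 0 * p 1}, ∀ i, x * p i * x⁻¹ = p (d i) := by
  obtain ⟨x, hx, h1⟩ := ind_D8 h hd
  refine ⟨x, mem_inf.2 ⟨hx, mem_centralizer_singleton_iff.2 ?_⟩, h1⟩
  rw [← comm_iff, cm, h1, h1]
  rcases h01 with ⟨e1, e2⟩ | ⟨e1, e2⟩
  · rw [e1, e2]
  · rw [e1, e2]; exact h.comm _ _

theorem ind_swap01 (h : Std (S : Subgroup G) P p) :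
    ∃ x ∈ (S : Subgroup G) ⊓ centralizer {p 0 * p 1}, x * p 0 * x⁻¹ = p 1 ∧ x * p 1 * x⁻¹ = p 0 ∧
      x * p 2 * x⁻¹ = p 2 ∧ x * p 3 * x⁻¹ = p 3 ∧ x * p 4 * x⁻¹ = p 4 := by
  obtain ⟨x, hx, h1⟩ := ind_T h (d := Equiv.swap 0 1) (by decide +kernel) (Or.inr (by decide))
  exact ⟨x, hx, h1 0, h1 1, h1 2, h1 3, h1 4⟩

theorem ind_swap23 (h : Std (S : Subgroup G) P p) :
    ∃ x ∈ (S : Subgroup G) ⊓ centralizer {p 0 * p 1}, x * p 0 * x⁻¹ = p 0 ∧ x * p 1 * x⁻¹ = p 1 ∧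
      x * p 2 * x⁻¹ = p 3 ∧ x * p 3 * x⁻¹ = p 2 ∧ x * p 4 * x⁻¹ = p 4 := by
  obtain ⟨x, hx, h1⟩ := ind_T h (d := Equiv.swap 2 3) (by decide +kernel) (Or.inl (by decide))
  exact ⟨x, hx, h1 0, h1 1, h1 2, h1 3, h1 4⟩

theorem ind_cross (h : Std (S : Subgroup G) P p) :
    ∃ x ∈ (S : Subgroup G), x * p 0 * x⁻¹ = p 2 ∧ x * p 1 * x⁻¹ = p 3 ∧
      x * p 2 * x⁻¹ = p 0 ∧ x * p 3 * x⁻¹ = p 1 ∧ x * p 4 * x⁻¹ = p 4 := by
  obtain ⟨x, hx, h1⟩ := ind_D8 h D8_tau
  exact ⟨x, hx, h1 0, h1 1, h1 2, h1 3, h1 4⟩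

end Cfsg.Agent.Omega.NO3S.LightFive.DEight

end
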